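import Cfsg.Agent.S1699
import Cfsg.Agent.Lib.Compute.Mult.PLocal3
import Cfsg.Agent.Lib.Compute.Mult.ONH.Thm

/-!
# Elements of the O'Nan group and checks on the action on `122760` points
-/

set_option autoImplicit false
set_option maxRecDepth 1000000

namespace Cfsg.Agent.Lib.Compute.Mult.ON

open Cfsg.Agent.Lib.Compute.ToddCoxeterCore Cfsg.Agent.Lib.Compute.ToddCoxeterPresented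
  Cfsg.Agent.Lib.Compute.TCFast Cfsg.Agent.Lib.Compute.TCChain
open Cfsg.Agent.Lib.Compute.TC

/-- A word, left to right. -/
noncomputable def Wp (w : List ℕ) : PE :=
  List.rec (motive := fun _ => PE) .one (fun x _ ih => .mul (.lt x) ih) w

/-- A word, first letter on the right. -/
noncomputable def wP (lt : ℕ → PE) (w : List ℕ) : PE :=
  List.rec (motive := fun _ => PE) .one (fun x _ ih => .mul ih (lt x)) w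

/-- The point reached by a word, first letter first. -/
noncomputable def ptW (gens : List PE) (w : List ℕ) : ℕ → ℕ :=
  List.rec (motive := fun _ => ℕ → ℕ) (fun p => p)
    (fun j _ ih p => frc ((gens.getD j .one).ev (ev0 ONT.cfg) true p) ih) w

/-- The check of an orbit. -/
def OrbOK (gens : List PE) (q : ℕ) (W : List (List ℕ)) (L : List ℕ) : Prop :=
  L.Nodup ∧ (∀ p ∈ L, p < 122760) ∧ q ∈ L ∧ (∀ e ∈ gens, ∀ p ∈ L, e.ev (ev0 ONT.cfg) true p ∈ L) ∧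
    W.map (fun w => ptW gens w q) = L

noncomputable instance (gens : List PE) (q : ℕ) (W : List (List ℕ)) (L : List ℕ) : Decidable (OrbOK gens q W L) := by
  unfold OrbOK
  infer_instance

/-- An element. -/
noncomputable def u5E : PE := Wp [4,0,3,0,4,0,3,0]
/-- An element. -/
noncomputable def u11E : PE := Wp [6,5,4,3,0]
/-- An element. -/
noncomputable def u19E : PE := Wp [6,5,4,3,0,0]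
/-- An element. -/
noncomputable def u31E : PE := Wp [6,4,5,3,0]
/-- An element. -/
noncomputable def ccE : PE := Wp [7,6,7,6,7,5,1,4,1,1,7,0,2,5,1,6,6,2,6,1,5,7,2,4,3,1,5,1,4,3,5,4]
/-- An element. -/
noncomputable def x1E : PE := Wp [7,4,5,6,5,4]
/-- An element. -/
noncomputable def x2E : PE := Wp [1,4,5,6,7,5,4,0]
/-- An element. -/
noncomputable def tauE : PE := Wp [6,7,6,5,3,4,5,6,1,3,4,5,1,6,3,4,5,4,6,0,3,5,4,1,3,6,5]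
/-- An element. -/
noncomputable def x7E : PE := Wp [2,7,6,2,3,0,3,1,3,5,0,6,0,5,6,0,1,1,4,3,0,6,5,6,7,4,6,2,1,3,7,2,0,5,7,4,7,6,1,6,3,0,3,1,6,0,4,5,4,7,5,4,0,0,7,5,2,3,6,7,6,0,6,4,1,7,0,5,7,1,5,2,5,0,7,5,1,7,0,4,6,1,6,7,6,3,2,5,7,1,1,4,5,7,4,5,4,1,6,0,3,1,3,6,0,6,7,4,7,5,1,2,7,3,0,2,6,4,7,6,5,6,1,3,4,0,0,1,6,5,1,6,1,5,3,0,3,1,3,2,6,7]
/-- An element. -/
noncomputable def y7E : PE := Wp [2,0,4,2,0,4,2,5,7,5,2,6,3,5,4,7,0,2,5,3,0,2,5,6,1,1,3,0,2,1,5,4,0,6,0,0,2,6,3,1,5,4,1,0,0,4,3,1,6,4,0,1,0,4,2,3,1,0,5,6,7,3,4,0,2,6,2,3,6,4,7,2,7,4,6,3,2,6,2,1,4,3,7,6,5,1,0,3,2,4,1,0,1,4,6,0,3,4,1,1,0,4,5,0,3,6,2,1,1,6,1,4,5,0,2,1,3,0,0,6,5,2,1,3,5,2,1,7,4,5,3,6,2,5,7,5,2,4,1,2,4,1]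
/-- An element. -/
noncomputable def h1E : PE := Wp [4,2]
/-- An element. -/
noncomputable def h2E : PE := Wp [0,3,4,5,6,1,3,4,5,1,3,1,6,4,5,4,3,1,6,5,4]
/-- An orbit. -/
def L7 : List ℕ := [0,17136,1802,62712,122209,61650,28593,6898,60382,112664,114857,81139,49642,117065,34052,8790,37117,25654,26099,32985,93531,96577,54862,27814,58349,91452,96499,28863,51400,17147,54964,21640,13756,84290,79727,38124,102135,40369,52472,53741,26391,14440,115759,35953,18229,13110,108509,30113,120279,95160,41501,76225,14903,110807,116873,43417,33995,118387,92992,60415,89172,6790,67984,107498,50545,69537,73312,75195,108586,74203,117119,34270,83704,64874,113425,118004,7550,116079,19227,92346,47376,75681,120551,36083,104689,55177,36964,9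4322,80546,28748,1022,67390,31295,89425,7961,118569,98680,60181,23184,102666,50855,74526,109417,100449,97188,60607,71877,66237,52625,87108,19939,116826,22127,76865,36119,53558,122681,33156,118527,43213,109181,66267,68482,106913,94117,121666,87878,35604,14697,32580,32359,122737,120239,7211,42342,19624,100623,65878,117539,23714,102734,100483,90232,113620,74494,100101,48165,54201,44489,103590,86419,22471,112848,76953,94044,101163,35696,1055,3795,6660,18734,92022,104964,74395,52748,120650,3908,115130,75239,53348,85494,63384,109339,2429,48135,107639,114738,107978,11510,113613,32835,25606,103431,10268,68497,8035,101283,80320,98257,119911,20455,1637,94741,90114,32612,15529,119814,111788,103709,66119,19822,54541,57873,57232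,66078,8607,81758,89044,14469,119352,23381,109858,96361,13952,47160,51824,26316,21298,73965,114986,29025,72798,26274,90019,111270,29217,13264,26153,53240,46995,72491,81450,38868,99425,118274,86071,93019,43974,14377,68906,83750,83869,14014,54020,64608,72986,108158,116148,95143,101007,112830,37940,103003,47477,48754,19924,52494,105203,48036,112394,93275,14330,44339,122227,56988,47881,94636,82421,49721,49605,50763,101144,76638,93706,40083,122456,114839,25134,65321,54403,67713,114737,26452,28617,89934,35883,114151,56498,119783,112215,21612,19759,90037,99359,62355,28744,59287,122753,33143,81855,41955,98974,13389,67784,79706,16385,47314,58233,121509,52033,7592,98055,16507,37602,3608,94672,113117,86064,53436,73365,13075,102748,78971,5264,100519,4378,19752,31279,25226,1827,2232,25490,106200,116299,107456,23374,88832,276,137,1514,588,577,598]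
/-- Its words. -/
def W7 : List (List ℕ) := [[],[0],[1],[0,0],[0,1],[1,0],[1,1],[0,0,0],[0,0,1],[0,1,0],[0,1,1],[1,0,0],[1,0,1],[1,1,0],[1,1,1],[0,0,0,0],[0,0,0,1],[0,0,1,0],[0,0,1,1],[0,1,0,0],[0,1,0,1],[0,1,1,0],[0,1,1,1],[1,0,0,0],[1,0,1,0],[1,0,1,1],[1,1,0,0],[1,1,0,1],[1,1,1,0],[1,1,1,1],[0,0,0,0,0],[0,0,0,0,1],[0,0,0,1,0],[0,0,0,1,1],[0,0,1,0,0],[0,0,1,0,1],[0,0,1,1,0],[0,0,1,1,1],[0,1,0,0,0],[0,1,0,1,0],[0,1,0,1,1],[0,1,1,0,0],[0,1,1,0,1],[0,1,1,1,0],[0,1,1,1,1],[1,0,0,0,0],[1,0,1,0,0],[1,0,1,1,0],[1,0,1,1,1],[1,1,0,0,0],[1,1,0,1,0],[1,1,0,1,1],[1,1,1,0,0],[1,1,1,0,1],[1,1,1,1,0],[1,1,1,1,1],[0,0,0,0,0,0],[0,0,0,0,0,1],[0,0,0,0,1,0],[0,0,0,0,1,1],[0,0,0,1,0,0],[0,0,0,1,0,1],[0,0,0,1,1,0],[0,0,0,1,1,1],[0,0,1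,0,0,0],[0,0,1,0,1,0],[0,0,1,0,1,1],[0,0,1,1,0,0],[0,0,1,1,0,1],[0,0,1,1,1,0],[0,0,1,1,1,1],[0,1,0,0,0,0],[0,1,0,1,0,0],[0,1,0,1,1,0],[0,1,0,1,1,1],[0,1,1,0,0,0],[0,1,1,0,1,0],[0,1,1,0,1,1],[0,1,1,1,0,0],[0,1,1,1,0,1],[0,1,1,1,1,0],[0,1,1,1,1,1],[1,0,0,0,0,0],[1,0,1,1,1,0],[1,0,1,1,1,1],[1,1,0,1,1,0],[1,1,0,1,1,1],[1,1,1,0,1,1],[1,1,1,1,0,1],[1,1,1,1,1,0],[1,1,1,1,1,1],[0,0,0,0,0,0,1],[0,0,0,0,0,1,0],[0,0,0,0,0,1,1],[0,0,0,0,1,0,0],[0,0,0,0,1,0,1],[0,0,0,0,1,1,0],[0,0,0,0,1,1,1],[0,0,0,1,0,0,0],[0,0,0,1,0,1,0],[0,0,0,1,0,1,1],[0,0,0,1,1,0,0],[0,0,0,1,1,0,1],[0,0,0,1,1,1,0],[0,0,0,1,1,1,1],[0,0,1,0,0,0,0],[0,0,1,0,1,0,0],[0,0,1,0,1,1,0],[0,0,1,0,1,1,1],[0,0,1,1,0,0,0],[0,0,1,1,0,1,0],[0,0,1,1,0,1,1],[0,0,1,1,1,0,0],[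0,0,1,1,1,0,1],[0,0,1,1,1,1,0],[0,0,1,1,1,1,1],[0,1,0,0,0,0,0],[0,1,0,1,1,1,0],[0,1,0,1,1,1,1],[0,1,1,0,1,1,0],[0,1,1,0,1,1,1],[0,1,1,1,0,1,1],[0,1,1,1,1,0,1],[0,1,1,1,1,1,0],[0,1,1,1,1,1,1],[1,0,0,0,0,0,0],[1,0,1,1,1,1,0],[1,0,1,1,1,1,1],[1,1,0,1,1,1,1],[1,1,1,0,1,1,1],[1,1,1,1,0,1,1],[1,1,1,1,1,0,1],[1,1,1,1,1,1,0],[0,0,0,0,0,0,1,0],[0,0,0,0,0,0,1,1],[0,0,0,0,0,1,0,0],[0,0,0,0,0,1,0,1],[0,0,0,0,0,1,1,0],[0,0,0,0,0,1,1,1],[0,0,0,0,1,0,0,0],[0,0,0,0,1,0,1,0],[0,0,0,0,1,0,1,1],[0,0,0,0,1,1,0,0],[0,0,0,0,1,1,0,1],[0,0,0,0,1,1,1,0],[0,0,0,0,1,1,1,1],[0,0,0,1,0,0,0,0],[0,0,0,1,0,1,0,0],[0,0,0,1,0,1,1,0],[0,0,0,1,0,1,1,1],[0,0,0,1,1,0,0,0],[0,0,0,1,1,0,1,0],[0,0,0,1,1,0,1,1],[0,0,0,1,1,1,0,0],[0,0,0,1,1,1,0,1],[0,0,0,1,1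,1,1,0],[0,0,0,1,1,1,1,1],[0,0,1,0,0,0,0,0],[0,0,1,0,1,1,1,0],[0,0,1,0,1,1,1,1],[0,0,1,1,0,1,1,0],[0,0,1,1,0,1,1,1],[0,0,1,1,1,0,1,1],[0,0,1,1,1,1,0,1],[0,0,1,1,1,1,1,0],[0,0,1,1,1,1,1,1],[0,1,0,0,0,0,0,0],[0,1,0,1,1,1,1,0],[0,1,0,1,1,1,1,1],[0,1,1,0,1,1,1,1],[0,1,1,1,0,1,1,1],[0,1,1,1,1,0,1,1],[0,1,1,1,1,1,0,1],[0,1,1,1,1,1,1,0],[1,0,1,1,1,1,1,1],[1,1,0,1,1,1,1,1],[1,1,1,0,1,1,1,1],[1,1,1,1,0,1,1,1],[1,1,1,1,1,0,1,1],[1,1,1,1,1,1,0,1],[0,0,0,0,0,0,1,0,0],[0,0,0,0,0,0,1,0,1],[0,0,0,0,0,0,1,1,0],[0,0,0,0,0,0,1,1,1],[0,0,0,0,0,1,0,0,0],[0,0,0,0,0,1,0,1,0],[0,0,0,0,0,1,0,1,1],[0,0,0,0,0,1,1,0,0],[0,0,0,0,0,1,1,0,1],[0,0,0,0,0,1,1,1,0],[0,0,0,0,0,1,1,1,1],[0,0,0,0,1,0,0,0,0],[0,0,0,0,1,0,1,0,0],[0,0,0,0,1,0,1,1,0],[0,0,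0,0,1,0,1,1,1],[0,0,0,0,1,1,0,0,0],[0,0,0,0,1,1,0,1,0],[0,0,0,0,1,1,0,1,1],[0,0,0,0,1,1,1,0,0],[0,0,0,0,1,1,1,0,1],[0,0,0,0,1,1,1,1,0],[0,0,0,0,1,1,1,1,1],[0,0,0,1,0,0,0,0,0],[0,0,0,1,0,1,1,1,0],[0,0,0,1,0,1,1,1,1],[0,0,0,1,1,0,1,1,0],[0,0,0,1,1,0,1,1,1],[0,0,0,1,1,1,0,1,1],[0,0,0,1,1,1,1,0,1],[0,0,0,1,1,1,1,1,0],[0,0,0,1,1,1,1,1,1],[0,0,1,0,0,0,0,0,0],[0,0,1,0,1,1,1,1,0],[0,0,1,0,1,1,1,1,1],[0,0,1,1,0,1,1,1,1],[0,0,1,1,1,0,1,1,1],[0,0,1,1,1,1,0,1,1],[0,0,1,1,1,1,1,0,1],[0,0,1,1,1,1,1,1,0],[0,1,0,1,1,1,1,1,1],[0,1,1,0,1,1,1,1,1],[0,1,1,1,0,1,1,1,1],[0,1,1,1,1,0,1,1,1],[0,1,1,1,1,1,0,1,1],[0,1,1,1,1,1,1,0,1],[0,0,0,0,0,0,1,0,0,0],[0,0,0,0,0,0,1,0,1,0],[0,0,0,0,0,0,1,0,1,1],[0,0,0,0,0,0,1,1,0,0],[0,0,0,0,0,0,1,1,0,1],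[0,0,0,0,0,0,1,1,1,0],[0,0,0,0,0,0,1,1,1,1],[0,0,0,0,0,1,0,0,0,0],[0,0,0,0,0,1,0,1,0,0],[0,0,0,0,0,1,0,1,1,0],[0,0,0,0,0,1,0,1,1,1],[0,0,0,0,0,1,1,0,0,0],[0,0,0,0,0,1,1,0,1,0],[0,0,0,0,0,1,1,0,1,1],[0,0,0,0,0,1,1,1,0,0],[0,0,0,0,0,1,1,1,0,1],[0,0,0,0,0,1,1,1,1,0],[0,0,0,0,0,1,1,1,1,1],[0,0,0,0,1,0,0,0,0,0],[0,0,0,0,1,0,1,1,1,0],[0,0,0,0,1,0,1,1,1,1],[0,0,0,0,1,1,0,1,1,0],[0,0,0,0,1,1,0,1,1,1],[0,0,0,0,1,1,1,0,1,1],[0,0,0,0,1,1,1,1,0,1],[0,0,0,0,1,1,1,1,1,0],[0,0,0,0,1,1,1,1,1,1],[0,0,0,1,0,0,0,0,0,0],[0,0,0,1,0,1,1,1,1,0],[0,0,0,1,0,1,1,1,1,1],[0,0,0,1,1,0,1,1,1,1],[0,0,0,1,1,1,0,1,1,1],[0,0,0,1,1,1,1,0,1,1],[0,0,0,1,1,1,1,1,0,1],[0,0,0,1,1,1,1,1,1,0],[0,0,1,0,1,1,1,1,1,1],[0,0,1,1,0,1,1,1,1,1],[0,0,1,1,1,0,1,1,1,1]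,[0,0,1,1,1,1,0,1,1,1],[0,0,1,1,1,1,1,0,1,1],[0,0,1,1,1,1,1,1,0,1],[0,0,0,0,0,0,1,0,0,0,0],[0,0,0,0,0,0,1,0,1,0,0],[0,0,0,0,0,0,1,0,1,1,0],[0,0,0,0,0,0,1,0,1,1,1],[0,0,0,0,0,0,1,1,0,0,0],[0,0,0,0,0,0,1,1,0,1,0],[0,0,0,0,0,0,1,1,0,1,1],[0,0,0,0,0,0,1,1,1,0,0],[0,0,0,0,0,0,1,1,1,0,1],[0,0,0,0,0,0,1,1,1,1,0],[0,0,0,0,0,0,1,1,1,1,1],[0,0,0,0,0,1,0,0,0,0,0],[0,0,0,0,0,1,0,1,1,1,0],[0,0,0,0,0,1,0,1,1,1,1],[0,0,0,0,0,1,1,0,1,1,0],[0,0,0,0,0,1,1,0,1,1,1],[0,0,0,0,0,1,1,1,0,1,1],[0,0,0,0,0,1,1,1,1,0,1],[0,0,0,0,0,1,1,1,1,1,0],[0,0,0,0,0,1,1,1,1,1,1],[0,0,0,0,1,0,0,0,0,0,0],[0,0,0,0,1,0,1,1,1,1,0],[0,0,0,0,1,0,1,1,1,1,1],[0,0,0,0,1,1,0,1,1,1,1],[0,0,0,0,1,1,1,0,1,1,1],[0,0,0,0,1,1,1,1,0,1,1],[0,0,0,0,1,1,1,1,1,0,1],[0,0,0,0,1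,1,1,1,1,1,0],[0,0,0,1,0,1,1,1,1,1,1],[0,0,0,1,1,0,1,1,1,1,1],[0,0,0,1,1,1,0,1,1,1,1],[0,0,0,1,1,1,1,0,1,1,1],[0,0,0,1,1,1,1,1,0,1,1],[0,0,0,1,1,1,1,1,1,0,1],[0,0,0,0,0,0,1,0,0,0,0,0],[0,0,0,0,0,0,1,0,1,1,1,0],[0,0,0,0,0,0,1,0,1,1,1,1],[0,0,0,0,0,0,1,1,0,1,1,0],[0,0,0,0,0,0,1,1,0,1,1,1],[0,0,0,0,0,0,1,1,1,0,1,1],[0,0,0,0,0,0,1,1,1,1,0,1],[0,0,0,0,0,0,1,1,1,1,1,0],[0,0,0,0,0,0,1,1,1,1,1,1],[0,0,0,0,0,1,0,0,0,0,0,0],[0,0,0,0,0,1,0,1,1,1,1,0],[0,0,0,0,0,1,0,1,1,1,1,1],[0,0,0,0,0,1,1,0,1,1,1,1],[0,0,0,0,0,1,1,1,0,1,1,1],[0,0,0,0,0,1,1,1,1,0,1,1],[0,0,0,0,0,1,1,1,1,1,0,1],[0,0,0,0,0,1,1,1,1,1,1,0],[0,0,0,0,1,0,1,1,1,1,1,1],[0,0,0,0,1,1,0,1,1,1,1,1],[0,0,0,0,1,1,1,0,1,1,1,1],[0,0,0,0,1,1,1,1,0,1,1,1],[0,0,0,0,1,1,1,1,1,0,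1,1],[0,0,0,0,1,1,1,1,1,1,0,1],[0,0,0,0,0,0,1,0,0,0,0,0,0],[0,0,0,0,0,0,1,0,1,1,1,1,0],[0,0,0,0,0,0,1,0,1,1,1,1,1],[0,0,0,0,0,0,1,1,0,1,1,1,1],[0,0,0,0,0,0,1,1,1,0,1,1,1],[0,0,0,0,0,0,1,1,1,1,0,1,1],[0,0,0,0,0,0,1,1,1,1,1,0,1],[0,0,0,0,0,0,1,1,1,1,1,1,0],[0,0,0,0,0,1,0,1,1,1,1,1,1],[0,0,0,0,0,1,1,0,1,1,1,1,1],[0,0,0,0,0,1,1,1,0,1,1,1,1],[0,0,0,0,0,1,1,1,1,0,1,1,1],[0,0,0,0,0,1,1,1,1,1,0,1,1],[0,0,0,0,0,1,1,1,1,1,1,0,1],[0,0,0,0,0,0,1,0,1,1,1,1,1,1],[0,0,0,0,0,0,1,1,0,1,1,1,1,1],[0,0,0,0,0,0,1,1,1,0,1,1,1,1],[0,0,0,0,0,0,1,1,1,1,0,1,1,1],[0,0,0,0,0,0,1,1,1,1,1,0,1,1],[0,0,0,0,0,0,1,1,1,1,1,1,0,1]]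
/-- An orbit. -/
def L3 : List ℕ := [31190,45584,2572,8951,31941,23791,22025,35726,59883,4040,6151,1317,58616,31911,18099,5226,18101,31908,4059,37442,23014,58685,59934,65904,24236,17888,5520,11597,2973,866,23790,249,17877,5928,31201,31943,35795,13838,24404,45337,45446,24281,4305,45585,17741,24409,17879,2628,514,31202,5786,5819,17637,24354,13831,1978,31189,17619,22927,24273,24120,5345,82356,17561,5227,11238,5729,1440,6571,17559,1072,48348,17601,17091,24381,17805,4150,4140,17606,11527,1933]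
/-- Its words. -/
def W3 : List (List ℕ) := [[],[0],[1],[2],[3],[0,0],[0,1],[0,2],[0,3],[1,1],[1,2],[1,3],[2,2],[2,3],[3,3],[0,0,1],[0,0,2],[0,0,3],[0,1,1],[0,1,2],[0,1,3],[0,2,2],[0,2,3],[0,3,3],[1,1,2],[1,1,3],[1,2,2],[1,2,3],[1,3,3],[2,2,3],[2,3,3],[0,0,1,1],[0,0,1,2],[0,0,1,3],[0,0,2,2],[0,0,2,3],[0,0,3,3],[0,1,1,2],[0,1,1,3],[0,1,2,2],[0,1,2,3],[0,1,3,3],[0,2,2,3],[0,2,3,3],[1,1,2,2],[1,1,2,3],[1,1,3,3],[1,2,2,3],[1,2,3,3],[2,2,3,3],[0,0,1,1,2],[0,0,1,1,3],[0,0,1,2,2],[0,0,1,2,3],[0,0,1,3,3],[0,0,2,2,3],[0,0,2,3,3],[0,1,1,2,2],[0,1,1,2,3],[0,1,1,3,3],[0,1,2,2,3],[0,1,2,3,3],[0,2,2,3,3],[1,1,2,2,3],[1,1,2,3,3],[1,2,2,3,3],[0,0,1,1,2,2],[0,0,1,1,2,3],[0,0,1,1,3,3],[0,0,1,2,2,3],[0,0,1,2,3,3],[0,0,2,2,3,3],[0,1,1,2,2,3],[0,1,1,2,3,3],[0,1,2,2,3,3],[1,1,2,2,3,3],[0,0,1,1,2,2,3],[0,0,1,1,2,3,3],[0,0,1,2,2,3,3],[0,1,1,2,2,3,3],[0,0,1,1,2,2,3,3]]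
/-- An orbit. -/
def L2 : List ℕ := [461,1812,96876,86920,119432,16606,52169,17000,118955,61823,9720,5501,115421,98903,74001,9762,4183,115049,73357,111360,100639,107869,96464,2713,79088,101317,61869,37368,94595,86256,89449,105372,11629,66788,45098,62471,4698,66910,50380,49755,89991,9752,43437,113460,10789,98222,94521,76366,85142,3188,4673,42422,53859,80350,86028,89408,18830,66841,107477,65893,41675,74255,59224,43988,70375,1437,42432,47188,112386,72058,115563,48672,106844,100050,110052,104115,117537,106253,84528,48463,68360,43807,122210,41973,67161,8130,54993,43092,115971,82807,82267,98919,24760,104653,40511,6605,118215,29207,48461,101465,91140,78431,42447,67995,60279,104812,9764,12743,100662,22362,11504,106650,1066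44,61036,36614,51693,93281,6130,6131,79481,8548,117824,111024,113313,91344,48158,33396,100565,26171,33864,79086,83457,19497,100184,70175,78884,19248,34254,80429,46962,87680,33930,6133,53900,33759,89232,47790,65748,97504,14532,117825,28586,17080,40773,40512,88494,33931,37804,104652,45310,9237,8333,24538,70177,64736,4535,38349,66912,51598,10788,26170,84398,19191,62919,102118,90526,64394,59443,48845,53182,24534,59225,85226,93326,88496,30576,104114,79292,16990,73612,78332,67993,17079,34300,14270,108144,101434,25765,53280,5066,6841,50661,64168,58159,84267,26278,104157,111591,65742,16989,49591,106228,109328,82091,48101,97843,121420,76980,76309,43641,82986,103390,11611,52259,110385,28587,9258,82951,103739,3980,48955,51103,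89450,60997,101504,47869,96260,83888,55427,57908,14263,45309,43094,118213,72294,88499,1820,55966,10682,48098,60280,25555,112712,11019,85387,71559,47815,76018,28706,101986,104696,113690,9259,28705,122106,55051,110295,53288,79577,90912,29807,82266,47634,14261,85126,16982,8332,64865,19194,2347,84529,2364,6742,67162,13589,34271,56738,79579,55965,93619,42651,71442,28752,8251,81032,121316,19515,59215,122208,62920,28749,74556,70180,54929,83257,50379,71665,14633,106646,108456,100052,49857,105739,85138,94601,3966,90596,79560,9236,48725,110192,29369,48050,76310,53817,116568,101463,93743,52157,77318,2290,104156,9387,13588,33760,121755,70182,69926,64206,78464,57731,1432,61224,14477,98910,107043,63080,32282,74555,85092,3144,7955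9,91280,83218,110041,53769,93261,63570,78331,40060,111786,105198,96412,82806,114510,99407,40911,104154,59435,60461,29319,2541,112371,73723,42329,1428,32716,100185,62922,4699,16992,6565,72868,86077,3114,67835,4157,66911,41160,37803,42436,99709,81671,115983,645,81791,64864,107476,97164,73327,71899,8547,91143,48007,33806,16983,72096,106469,121580,78392,19863,6337,72871,28632,37367,1182,46970,22031,36683,22171,18682,50848,42423,100683,65007,41235,3160,110013,2345,67163,57744,2725,1166,51532,70272,16988,3186,67417,53325,84401,116758,89753,1438,101259,1801,69793,14042,61865,43435,48104,85668,75540,98254,61767,76610,4159,1819,1181,98703,85093,76367,2726,65331,838,104929,103315,116171,54254,59227,43043,107809,47455,2286,117099,73392,39979,62403,105431,1169,78393,4592,105430,109755,47969,73844,27279,23310,111208,66828,2328,1815,90824,4126,9751,9384,46349,54256,121227,68275,101464,113986,42334,76019,8106,109006,16999,5500,117214,33809,41591,65958,58160]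
/-- Its words. -/
def W2 : List (List ℕ) := [[],[0],[1],[0,1],[1,0],[1,1],[0,1,0],[0,1,1],[1,0,1],[1,1,0],[0,1,0,1],[0,1,1,0],[1,0,1,0],[1,0,1,1],[1,1,0,1],[0,1,0,1,0],[0,1,0,1,1],[0,1,1,0,1],[1,0,1,0,1],[1,0,1,1,0],[1,1,0,1,0],[1,1,0,1,1],[0,1,0,1,0,1],[0,1,0,1,1,0],[0,1,1,0,1,0],[0,1,1,0,1,1],[1,0,1,0,1,0],[1,0,1,0,1,1],[1,0,1,1,0,1],[1,1,0,1,0,1],[1,1,0,1,1,0],[0,1,0,1,0,1,0],[0,1,0,1,0,1,1],[0,1,0,1,1,0,1],[0,1,1,0,1,0,1],[0,1,1,0,1,1,0],[1,0,1,0,1,0,1],[1,0,1,0,1,1,0],[1,0,1,1,0,1,0],[1,0,1,1,0,1,1],[1,1,0,1,0,1,0],[1,1,0,1,0,1,1],[1,1,0,1,1,0,1],[0,1,0,1,0,1,0,1],[0,1,0,1,0,1,1,0],[0,1,0,1,1,0,1,0],[0,1,0,1,1,0,1,1],[0,1,1,0,1,0,1,0],[0,1,1,0,1,0,1,1],[0,1,1,0,1,1,0,1],[1,0,1,0,1,0,1,0],[1,0,1,0,1,0,1,1],[1,0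,1,0,1,1,0,1],[1,0,1,1,0,1,0,1],[1,0,1,1,0,1,1,0],[1,1,0,1,0,1,0,1],[1,1,0,1,0,1,1,0],[1,1,0,1,1,0,1,0],[1,1,0,1,1,0,1,1],[0,1,0,1,0,1,0,1,1],[0,1,0,1,0,1,1,0,1],[0,1,0,1,1,0,1,0,1],[0,1,0,1,1,0,1,1,0],[0,1,1,0,1,0,1,0,1],[0,1,1,0,1,0,1,1,0],[0,1,1,0,1,1,0,1,0],[1,0,1,0,1,0,1,1,0],[1,0,1,0,1,1,0,1,0],[1,0,1,0,1,1,0,1,1],[1,0,1,1,0,1,0,1,0],[1,0,1,1,0,1,0,1,1],[1,0,1,1,0,1,1,0,1],[1,1,0,1,0,1,0,1,0],[1,1,0,1,0,1,0,1,1],[1,1,0,1,0,1,1,0,1],[1,1,0,1,1,0,1,0,1],[0,1,0,1,0,1,0,1,1,0],[0,1,0,1,0,1,1,0,1,1],[0,1,0,1,1,0,1,0,1,1],[0,1,0,1,1,0,1,1,0,1],[0,1,1,0,1,0,1,0,1,0],[0,1,1,0,1,0,1,0,1,1],[0,1,1,0,1,0,1,1,0,1],[0,1,1,0,1,1,0,1,0,1],[1,0,1,0,1,0,1,1,0,1],[1,0,1,0,1,1,0,1,0,1],[1,0,1,0,1,1,0,1,1,0],[1,0,1,1,0,1,0,1,0,1]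,[1,0,1,1,0,1,0,1,1,0],[1,0,1,1,0,1,1,0,1,0],[1,1,0,1,0,1,0,1,1,0],[1,1,0,1,0,1,1,0,1,0],[1,1,0,1,0,1,1,0,1,1],[1,1,0,1,1,0,1,0,1,0],[1,1,0,1,1,0,1,0,1,1],[0,1,0,1,0,1,0,1,1,0,1],[0,1,0,1,0,1,1,0,1,1,0],[0,1,0,1,1,0,1,0,1,1,0],[0,1,0,1,1,0,1,1,0,1,0],[0,1,1,0,1,0,1,0,1,1,0],[0,1,1,0,1,0,1,1,0,1,0],[0,1,1,0,1,0,1,1,0,1,1],[0,1,1,0,1,1,0,1,0,1,0],[0,1,1,0,1,1,0,1,0,1,1],[1,0,1,0,1,0,1,1,0,1,0],[1,0,1,0,1,0,1,1,0,1,1],[1,0,1,0,1,1,0,1,0,1,0],[1,0,1,0,1,1,0,1,0,1,1],[1,0,1,0,1,1,0,1,1,0,1],[1,0,1,1,0,1,0,1,0,1,0],[1,0,1,1,0,1,0,1,0,1,1],[1,0,1,1,0,1,1,0,1,0,1],[1,1,0,1,0,1,0,1,1,0,1],[1,1,0,1,0,1,1,0,1,0,1],[1,1,0,1,0,1,1,0,1,1,0],[1,1,0,1,1,0,1,0,1,0,1],[1,1,0,1,1,0,1,0,1,1,0],[0,1,0,1,0,1,0,1,1,0,1,0],[0,1,0,1,0,1,0,1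,1,0,1,1],[0,1,0,1,1,0,1,0,1,1,0,1],[0,1,0,1,1,0,1,1,0,1,0,1],[0,1,1,0,1,0,1,0,1,1,0,1],[0,1,1,0,1,0,1,1,0,1,0,1],[0,1,1,0,1,0,1,1,0,1,1,0],[0,1,1,0,1,1,0,1,0,1,0,1],[0,1,1,0,1,1,0,1,0,1,1,0],[1,0,1,0,1,0,1,1,0,1,0,1],[1,0,1,0,1,0,1,1,0,1,1,0],[1,0,1,0,1,1,0,1,0,1,0,1],[1,0,1,0,1,1,0,1,0,1,1,0],[1,0,1,0,1,1,0,1,1,0,1,0],[1,0,1,1,0,1,1,0,1,0,1,0],[1,0,1,1,0,1,1,0,1,0,1,1],[1,1,0,1,0,1,0,1,1,0,1,0],[1,1,0,1,0,1,0,1,1,0,1,1],[1,1,0,1,0,1,1,0,1,0,1,0],[1,1,0,1,0,1,1,0,1,0,1,1],[1,1,0,1,0,1,1,0,1,1,0,1],[1,1,0,1,1,0,1,0,1,0,1,0],[1,1,0,1,1,0,1,0,1,0,1,1],[1,1,0,1,1,0,1,0,1,1,0,1],[0,1,0,1,0,1,0,1,1,0,1,0,1],[0,1,0,1,0,1,0,1,1,0,1,1,0],[0,1,0,1,1,0,1,0,1,1,0,1,0],[0,1,0,1,1,0,1,1,0,1,0,1,1],[0,1,1,0,1,0,1,0,1,1,0,1,0],[0,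1,1,0,1,0,1,0,1,1,0,1,1],[0,1,1,0,1,0,1,1,0,1,0,1,0],[0,1,1,0,1,0,1,1,0,1,0,1,1],[0,1,1,0,1,0,1,1,0,1,1,0,1],[0,1,1,0,1,1,0,1,0,1,0,1,0],[0,1,1,0,1,1,0,1,0,1,0,1,1],[0,1,1,0,1,1,0,1,0,1,1,0,1],[1,0,1,0,1,0,1,1,0,1,0,1,0],[1,0,1,0,1,0,1,1,0,1,0,1,1],[1,0,1,0,1,0,1,1,0,1,1,0,1],[1,0,1,0,1,1,0,1,0,1,0,1,0],[1,0,1,0,1,1,0,1,0,1,0,1,1],[1,0,1,0,1,1,0,1,0,1,1,0,1],[1,0,1,0,1,1,0,1,1,0,1,0,1],[1,0,1,1,0,1,1,0,1,0,1,0,1],[1,0,1,1,0,1,1,0,1,0,1,1,0],[1,1,0,1,0,1,0,1,1,0,1,0,1],[1,1,0,1,0,1,0,1,1,0,1,1,0],[1,1,0,1,0,1,1,0,1,0,1,0,1],[1,1,0,1,0,1,1,0,1,0,1,1,0],[1,1,0,1,0,1,1,0,1,1,0,1,0],[1,1,0,1,1,0,1,0,1,0,1,1,0],[1,1,0,1,1,0,1,0,1,1,0,1,0],[1,1,0,1,1,0,1,0,1,1,0,1,1],[0,1,0,1,0,1,0,1,1,0,1,0,1,0],[0,1,0,1,0,1,0,1,1,0,1,0,1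,1],[0,1,0,1,0,1,0,1,1,0,1,1,0,1],[0,1,0,1,1,0,1,1,0,1,0,1,1,0],[0,1,1,0,1,0,1,0,1,1,0,1,0,1],[0,1,1,0,1,0,1,0,1,1,0,1,1,0],[0,1,1,0,1,0,1,1,0,1,0,1,0,1],[0,1,1,0,1,0,1,1,0,1,0,1,1,0],[0,1,1,0,1,0,1,1,0,1,1,0,1,0],[0,1,1,0,1,1,0,1,0,1,0,1,1,0],[0,1,1,0,1,1,0,1,0,1,1,0,1,0],[0,1,1,0,1,1,0,1,0,1,1,0,1,1],[1,0,1,0,1,0,1,1,0,1,0,1,0,1],[1,0,1,0,1,0,1,1,0,1,0,1,1,0],[1,0,1,0,1,0,1,1,0,1,1,0,1,0],[1,0,1,0,1,1,0,1,0,1,0,1,1,0],[1,0,1,0,1,1,0,1,0,1,1,0,1,0],[1,0,1,0,1,1,0,1,0,1,1,0,1,1],[1,0,1,0,1,1,0,1,1,0,1,0,1,0],[1,0,1,0,1,1,0,1,1,0,1,0,1,1],[1,0,1,1,0,1,1,0,1,0,1,0,1,1],[1,0,1,1,0,1,1,0,1,0,1,1,0,1],[1,1,0,1,0,1,0,1,1,0,1,0,1,0],[1,1,0,1,0,1,0,1,1,0,1,0,1,1],[1,1,0,1,0,1,0,1,1,0,1,1,0,1],[1,1,0,1,0,1,1,0,1,0,1,0,1,0],[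1,1,0,1,0,1,1,0,1,0,1,0,1,1],[1,1,0,1,0,1,1,0,1,0,1,1,0,1],[1,1,0,1,0,1,1,0,1,1,0,1,0,1],[1,1,0,1,1,0,1,0,1,0,1,1,0,1],[1,1,0,1,1,0,1,0,1,1,0,1,1,0],[0,1,0,1,0,1,0,1,1,0,1,0,1,1,0],[0,1,0,1,1,0,1,1,0,1,0,1,1,0,1],[0,1,1,0,1,0,1,0,1,1,0,1,0,1,0],[0,1,1,0,1,0,1,0,1,1,0,1,0,1,1],[0,1,1,0,1,0,1,0,1,1,0,1,1,0,1],[0,1,1,0,1,0,1,1,0,1,0,1,0,1,0],[0,1,1,0,1,0,1,1,0,1,0,1,0,1,1],[0,1,1,0,1,0,1,1,0,1,0,1,1,0,1],[0,1,1,0,1,0,1,1,0,1,1,0,1,0,1],[1,0,1,0,1,0,1,1,0,1,0,1,0,1,1],[1,0,1,0,1,0,1,1,0,1,0,1,1,0,1],[1,0,1,0,1,0,1,1,0,1,1,0,1,0,1],[1,0,1,0,1,1,0,1,0,1,0,1,1,0,1],[1,0,1,0,1,1,0,1,0,1,1,0,1,0,1],[1,0,1,0,1,1,0,1,0,1,1,0,1,1,0],[1,0,1,0,1,1,0,1,1,0,1,0,1,0,1],[1,0,1,0,1,1,0,1,1,0,1,0,1,1,0],[1,0,1,1,0,1,1,0,1,0,1,0,1,1,0],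[1,0,1,1,0,1,1,0,1,0,1,1,0,1,0],[1,0,1,1,0,1,1,0,1,0,1,1,0,1,1],[1,1,0,1,0,1,0,1,1,0,1,0,1,0,1],[1,1,0,1,0,1,0,1,1,0,1,0,1,1,0],[1,1,0,1,0,1,0,1,1,0,1,1,0,1,0],[1,1,0,1,0,1,1,0,1,0,1,0,1,1,0],[1,1,0,1,0,1,1,0,1,0,1,1,0,1,0],[1,1,0,1,0,1,1,0,1,0,1,1,0,1,1],[1,1,0,1,0,1,1,0,1,1,0,1,0,1,0],[1,1,0,1,0,1,1,0,1,1,0,1,0,1,1],[1,1,0,1,1,0,1,0,1,0,1,1,0,1,0],[1,1,0,1,1,0,1,0,1,0,1,1,0,1,1],[1,1,0,1,1,0,1,0,1,1,0,1,1,0,1],[0,1,0,1,0,1,0,1,1,0,1,0,1,1,0,1],[0,1,0,1,1,0,1,1,0,1,0,1,1,0,1,0],[0,1,0,1,1,0,1,1,0,1,0,1,1,0,1,1],[0,1,1,0,1,0,1,0,1,1,0,1,0,1,0,1],[0,1,1,0,1,0,1,0,1,1,0,1,0,1,1,0],[0,1,1,0,1,0,1,0,1,1,0,1,1,0,1,0],[0,1,1,0,1,0,1,1,0,1,0,1,0,1,1,0],[0,1,1,0,1,0,1,1,0,1,0,1,1,0,1,0],[0,1,1,0,1,0,1,1,0,1,0,1,1,0,1,1],[0,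1,1,0,1,0,1,1,0,1,1,0,1,0,1,0],[1,0,1,0,1,0,1,1,0,1,0,1,0,1,1,0],[1,0,1,0,1,0,1,1,0,1,0,1,1,0,1,0],[1,0,1,0,1,0,1,1,0,1,0,1,1,0,1,1],[1,0,1,0,1,0,1,1,0,1,1,0,1,0,1,0],[1,0,1,0,1,0,1,1,0,1,1,0,1,0,1,1],[1,0,1,0,1,1,0,1,0,1,0,1,1,0,1,0],[1,0,1,0,1,1,0,1,0,1,0,1,1,0,1,1],[1,0,1,0,1,1,0,1,0,1,1,0,1,0,1,0],[1,0,1,0,1,1,0,1,0,1,1,0,1,0,1,1],[1,0,1,0,1,1,0,1,0,1,1,0,1,1,0,1],[1,0,1,0,1,1,0,1,1,0,1,0,1,0,1,0],[1,0,1,0,1,1,0,1,1,0,1,0,1,0,1,1],[1,0,1,0,1,1,0,1,1,0,1,0,1,1,0,1],[1,0,1,1,0,1,1,0,1,0,1,0,1,1,0,1],[1,0,1,1,0,1,1,0,1,0,1,1,0,1,0,1],[1,1,0,1,0,1,0,1,1,0,1,0,1,0,1,1],[1,1,0,1,0,1,0,1,1,0,1,0,1,1,0,1],[1,1,0,1,0,1,0,1,1,0,1,1,0,1,0,1],[1,1,0,1,0,1,1,0,1,0,1,0,1,1,0,1],[1,1,0,1,0,1,1,0,1,0,1,1,0,1,0,1],[1,1,0,1,0,1,1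,0,1,0,1,1,0,1,1,0],[1,1,0,1,0,1,1,0,1,1,0,1,0,1,0,1],[1,1,0,1,0,1,1,0,1,1,0,1,0,1,1,0],[1,1,0,1,1,0,1,0,1,0,1,1,0,1,0,1],[0,1,0,1,0,1,0,1,1,0,1,0,1,1,0,1,0],[0,1,0,1,0,1,0,1,1,0,1,0,1,1,0,1,1],[0,1,0,1,1,0,1,1,0,1,0,1,1,0,1,0,1],[0,1,1,0,1,0,1,0,1,1,0,1,0,1,0,1,1],[0,1,1,0,1,0,1,0,1,1,0,1,0,1,1,0,1],[0,1,1,0,1,0,1,0,1,1,0,1,1,0,1,0,1],[0,1,1,0,1,0,1,1,0,1,0,1,1,0,1,0,1],[0,1,1,0,1,0,1,1,0,1,0,1,1,0,1,1,0],[0,1,1,0,1,0,1,1,0,1,1,0,1,0,1,0,1],[1,0,1,0,1,0,1,1,0,1,0,1,0,1,1,0,1],[1,0,1,0,1,0,1,1,0,1,0,1,1,0,1,0,1],[1,0,1,0,1,0,1,1,0,1,0,1,1,0,1,1,0],[1,0,1,0,1,0,1,1,0,1,1,0,1,0,1,0,1],[1,0,1,0,1,0,1,1,0,1,1,0,1,0,1,1,0],[1,0,1,0,1,1,0,1,0,1,0,1,1,0,1,0,1],[1,0,1,0,1,1,0,1,0,1,0,1,1,0,1,1,0],[1,0,1,0,1,1,0,1,0,1,1,0,1,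0,1,0,1],[1,0,1,0,1,1,0,1,0,1,1,0,1,0,1,1,0],[1,0,1,0,1,1,0,1,0,1,1,0,1,1,0,1,0],[1,0,1,0,1,1,0,1,1,0,1,0,1,0,1,1,0],[1,0,1,0,1,1,0,1,1,0,1,0,1,1,0,1,0],[1,0,1,0,1,1,0,1,1,0,1,0,1,1,0,1,1],[1,0,1,1,0,1,1,0,1,0,1,0,1,1,0,1,0],[1,0,1,1,0,1,1,0,1,0,1,0,1,1,0,1,1],[1,0,1,1,0,1,1,0,1,0,1,1,0,1,0,1,0],[1,0,1,1,0,1,1,0,1,0,1,1,0,1,0,1,1],[1,1,0,1,0,1,0,1,1,0,1,0,1,1,0,1,0],[1,1,0,1,0,1,0,1,1,0,1,0,1,1,0,1,1],[1,1,0,1,0,1,0,1,1,0,1,1,0,1,0,1,0],[1,1,0,1,0,1,1,0,1,0,1,0,1,1,0,1,0],[1,1,0,1,0,1,1,0,1,0,1,0,1,1,0,1,1],[1,1,0,1,0,1,1,0,1,0,1,1,0,1,0,1,0],[1,1,0,1,0,1,1,0,1,0,1,1,0,1,0,1,1],[1,1,0,1,0,1,1,0,1,0,1,1,0,1,1,0,1],[1,1,0,1,0,1,1,0,1,1,0,1,0,1,0,1,0],[1,1,0,1,0,1,1,0,1,1,0,1,0,1,0,1,1],[1,1,0,1,0,1,1,0,1,1,0,1,0,1,1,0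,1],[1,1,0,1,1,0,1,0,1,0,1,1,0,1,0,1,0],[1,1,0,1,1,0,1,0,1,0,1,1,0,1,0,1,1],[0,1,0,1,0,1,0,1,1,0,1,0,1,1,0,1,0,1],[0,1,0,1,0,1,0,1,1,0,1,0,1,1,0,1,1,0],[0,1,0,1,1,0,1,1,0,1,0,1,1,0,1,0,1,1],[0,1,1,0,1,0,1,0,1,1,0,1,0,1,0,1,1,0],[0,1,1,0,1,0,1,0,1,1,0,1,0,1,1,0,1,1],[0,1,1,0,1,0,1,0,1,1,0,1,1,0,1,0,1,0],[0,1,1,0,1,0,1,1,0,1,0,1,1,0,1,0,1,0],[0,1,1,0,1,0,1,1,0,1,0,1,1,0,1,1,0,1],[0,1,1,0,1,0,1,1,0,1,1,0,1,0,1,0,1,0],[0,1,1,0,1,0,1,1,0,1,1,0,1,0,1,0,1,1],[1,0,1,0,1,0,1,1,0,1,0,1,0,1,1,0,1,0],[1,0,1,0,1,0,1,1,0,1,0,1,0,1,1,0,1,1],[1,0,1,0,1,0,1,1,0,1,0,1,1,0,1,1,0,1],[1,0,1,0,1,0,1,1,0,1,1,0,1,0,1,0,1,0],[1,0,1,0,1,0,1,1,0,1,1,0,1,0,1,0,1,1],[1,0,1,0,1,0,1,1,0,1,1,0,1,0,1,1,0,1],[1,0,1,0,1,1,0,1,0,1,0,1,1,0,1,0,1,0],[1,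0,1,0,1,1,0,1,0,1,0,1,1,0,1,0,1,1],[1,0,1,0,1,1,0,1,0,1,1,0,1,0,1,0,1,1],[1,0,1,0,1,1,0,1,0,1,1,0,1,0,1,1,0,1],[1,0,1,0,1,1,0,1,0,1,1,0,1,1,0,1,0,1],[1,0,1,0,1,1,0,1,1,0,1,0,1,0,1,1,0,1],[1,0,1,1,0,1,1,0,1,0,1,0,1,1,0,1,1,0],[1,0,1,1,0,1,1,0,1,0,1,1,0,1,0,1,0,1],[1,0,1,1,0,1,1,0,1,0,1,1,0,1,0,1,1,0],[1,1,0,1,0,1,0,1,1,0,1,0,1,1,0,1,1,0],[1,1,0,1,0,1,0,1,1,0,1,1,0,1,0,1,0,1],[1,1,0,1,0,1,1,0,1,0,1,0,1,1,0,1,1,0],[1,1,0,1,0,1,1,0,1,0,1,1,0,1,0,1,0,1],[1,1,0,1,0,1,1,0,1,0,1,1,0,1,1,0,1,0],[1,1,0,1,0,1,1,0,1,1,0,1,0,1,0,1,1,0],[1,1,0,1,0,1,1,0,1,1,0,1,0,1,1,0,1,0],[1,1,0,1,0,1,1,0,1,1,0,1,0,1,1,0,1,1],[1,1,0,1,1,0,1,0,1,0,1,1,0,1,0,1,0,1],[1,1,0,1,1,0,1,0,1,0,1,1,0,1,0,1,1,0],[0,1,0,1,0,1,0,1,1,0,1,0,1,1,0,1,0,1,0],[0,1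,0,1,0,1,0,1,1,0,1,0,1,1,0,1,0,1,1],[0,1,0,1,0,1,0,1,1,0,1,0,1,1,0,1,1,0,1],[0,1,0,1,1,0,1,1,0,1,0,1,1,0,1,0,1,1,0],[0,1,1,0,1,0,1,0,1,1,0,1,0,1,0,1,1,0,1],[0,1,1,0,1,0,1,0,1,1,0,1,0,1,1,0,1,1,0],[0,1,1,0,1,0,1,0,1,1,0,1,1,0,1,0,1,0,1],[0,1,1,0,1,0,1,1,0,1,0,1,1,0,1,0,1,0,1],[0,1,1,0,1,0,1,1,0,1,0,1,1,0,1,1,0,1,0],[0,1,1,0,1,0,1,1,0,1,1,0,1,0,1,0,1,1,0],[1,0,1,0,1,0,1,1,0,1,0,1,0,1,1,0,1,0,1],[1,0,1,0,1,0,1,1,0,1,0,1,0,1,1,0,1,1,0],[1,0,1,0,1,0,1,1,0,1,0,1,1,0,1,1,0,1,0],[1,0,1,0,1,0,1,1,0,1,1,0,1,0,1,0,1,1,0],[1,0,1,0,1,0,1,1,0,1,1,0,1,0,1,1,0,1,0],[1,0,1,0,1,0,1,1,0,1,1,0,1,0,1,1,0,1,1],[1,0,1,0,1,1,0,1,0,1,0,1,1,0,1,0,1,0,1],[1,0,1,0,1,1,0,1,0,1,0,1,1,0,1,0,1,1,0],[1,0,1,0,1,1,0,1,0,1,1,0,1,0,1,0,1,1,0],[1,0,1,0,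1,1,0,1,0,1,1,0,1,0,1,1,0,1,0],[1,0,1,0,1,1,0,1,0,1,1,0,1,0,1,1,0,1,1],[1,0,1,0,1,1,0,1,0,1,1,0,1,1,0,1,0,1,0],[1,0,1,1,0,1,1,0,1,0,1,0,1,1,0,1,1,0,1],[1,0,1,1,0,1,1,0,1,0,1,1,0,1,0,1,0,1,0],[1,0,1,1,0,1,1,0,1,0,1,1,0,1,0,1,0,1,1],[1,0,1,1,0,1,1,0,1,0,1,1,0,1,0,1,1,0,1],[1,1,0,1,0,1,0,1,1,0,1,0,1,1,0,1,1,0,1],[1,1,0,1,0,1,0,1,1,0,1,1,0,1,0,1,0,1,0],[1,1,0,1,0,1,0,1,1,0,1,1,0,1,0,1,0,1,1],[1,1,0,1,0,1,1,0,1,0,1,0,1,1,0,1,1,0,1],[1,1,0,1,0,1,1,0,1,0,1,1,0,1,0,1,0,1,0],[1,1,0,1,0,1,1,0,1,0,1,1,0,1,0,1,0,1,1],[1,1,0,1,0,1,1,0,1,1,0,1,0,1,1,0,1,0,1],[1,1,0,1,1,0,1,0,1,0,1,1,0,1,0,1,0,1,1],[1,1,0,1,1,0,1,0,1,0,1,1,0,1,0,1,1,0,1],[0,1,0,1,0,1,0,1,1,0,1,0,1,1,0,1,0,1,1,0],[0,1,0,1,0,1,0,1,1,0,1,0,1,1,0,1,1,0,1,0],[0,1,0,1,1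,0,1,1,0,1,0,1,1,0,1,0,1,1,0,1],[0,1,1,0,1,0,1,0,1,1,0,1,0,1,0,1,1,0,1,0],[0,1,1,0,1,0,1,0,1,1,0,1,0,1,1,0,1,1,0,1],[0,1,1,0,1,0,1,0,1,1,0,1,1,0,1,0,1,0,1,0],[0,1,1,0,1,0,1,0,1,1,0,1,1,0,1,0,1,0,1,1],[0,1,1,0,1,0,1,1,0,1,0,1,1,0,1,0,1,0,1,1],[0,1,1,0,1,0,1,1,0,1,1,0,1,0,1,0,1,1,0,1],[1,0,1,0,1,0,1,1,0,1,0,1,0,1,1,0,1,0,1,0],[1,0,1,0,1,0,1,1,0,1,0,1,0,1,1,0,1,0,1,1],[1,0,1,0,1,0,1,1,0,1,0,1,0,1,1,0,1,1,0,1],[1,0,1,0,1,0,1,1,0,1,0,1,1,0,1,1,0,1,0,1],[1,0,1,0,1,0,1,1,0,1,1,0,1,0,1,0,1,1,0,1],[1,0,1,0,1,0,1,1,0,1,1,0,1,0,1,1,0,1,0,1],[1,0,1,0,1,1,0,1,0,1,0,1,1,0,1,0,1,0,1,1],[1,0,1,0,1,1,0,1,0,1,0,1,1,0,1,0,1,1,0,1],[1,0,1,0,1,1,0,1,0,1,1,0,1,0,1,1,0,1,0,1],[1,0,1,0,1,1,0,1,0,1,1,0,1,0,1,1,0,1,1,0],[1,0,1,0,1,1,0,1,0,1,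1,0,1,1,0,1,0,1,0,1],[1,0,1,1,0,1,1,0,1,0,1,0,1,1,0,1,1,0,1,0],[1,0,1,1,0,1,1,0,1,0,1,1,0,1,0,1,0,1,1,0],[1,0,1,1,0,1,1,0,1,0,1,1,0,1,0,1,1,0,1,0],[1,0,1,1,0,1,1,0,1,0,1,1,0,1,0,1,1,0,1,1],[1,1,0,1,0,1,0,1,1,0,1,0,1,1,0,1,1,0,1,0],[1,1,0,1,0,1,1,0,1,0,1,0,1,1,0,1,1,0,1,0],[1,1,0,1,0,1,1,0,1,0,1,1,0,1,0,1,0,1,1,0],[1,1,0,1,0,1,1,0,1,1,0,1,0,1,1,0,1,0,1,0],[1,1,0,1,1,0,1,0,1,0,1,1,0,1,0,1,0,1,1,0],[1,1,0,1,1,0,1,0,1,0,1,1,0,1,0,1,1,0,1,0],[0,1,0,1,0,1,0,1,1,0,1,0,1,1,0,1,0,1,1,0,1],[0,1,0,1,0,1,0,1,1,0,1,0,1,1,0,1,1,0,1,0,1],[0,1,0,1,1,0,1,1,0,1,0,1,1,0,1,0,1,1,0,1,0],[0,1,0,1,1,0,1,1,0,1,0,1,1,0,1,0,1,1,0,1,1],[0,1,1,0,1,0,1,0,1,1,0,1,0,1,0,1,1,0,1,0,1],[0,1,1,0,1,0,1,0,1,1,0,1,0,1,1,0,1,1,0,1,0],[0,1,1,0,1,0,1,0,1,1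,0,1,1,0,1,0,1,0,1,1,0],[0,1,1,0,1,0,1,1,0,1,0,1,1,0,1,0,1,0,1,1,0],[0,1,1,0,1,0,1,1,0,1,1,0,1,0,1,0,1,1,0,1,0],[1,0,1,0,1,0,1,1,0,1,0,1,0,1,1,0,1,0,1,1,0],[1,0,1,0,1,0,1,1,0,1,0,1,0,1,1,0,1,1,0,1,0],[1,0,1,0,1,0,1,1,0,1,0,1,1,0,1,1,0,1,0,1,0],[1,0,1,0,1,0,1,1,0,1,0,1,1,0,1,1,0,1,0,1,1],[1,0,1,0,1,0,1,1,0,1,1,0,1,0,1,0,1,1,0,1,0],[1,0,1,0,1,0,1,1,0,1,1,0,1,0,1,0,1,1,0,1,1],[1,0,1,0,1,0,1,1,0,1,1,0,1,0,1,1,0,1,0,1,0],[1,0,1,0,1,0,1,1,0,1,1,0,1,0,1,1,0,1,0,1,1],[1,0,1,0,1,1,0,1,0,1,0,1,1,0,1,0,1,0,1,1,0],[1,0,1,0,1,1,0,1,0,1,0,1,1,0,1,0,1,1,0,1,0],[1,0,1,0,1,1,0,1,0,1,1,0,1,0,1,1,0,1,0,1,0],[1,0,1,0,1,1,0,1,0,1,1,0,1,0,1,1,0,1,1,0,1],[1,0,1,0,1,1,0,1,0,1,1,0,1,1,0,1,0,1,0,1,0],[1,0,1,1,0,1,1,0,1,0,1,1,0,1,0,1,0,1,1,0,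1],[1,0,1,1,0,1,1,0,1,0,1,1,0,1,0,1,1,0,1,0,1],[1,0,1,1,0,1,1,0,1,0,1,1,0,1,0,1,1,0,1,1,0],[1,1,0,1,0,1,0,1,1,0,1,0,1,1,0,1,1,0,1,0,1],[1,1,0,1,0,1,1,0,1,0,1,0,1,1,0,1,1,0,1,0,1],[1,1,0,1,0,1,1,0,1,0,1,1,0,1,0,1,0,1,1,0,1],[1,1,0,1,0,1,1,0,1,1,0,1,0,1,1,0,1,0,1,0,1],[1,1,0,1,1,0,1,0,1,0,1,1,0,1,0,1,1,0,1,0,1],[0,1,0,1,0,1,0,1,1,0,1,0,1,1,0,1,0,1,1,0,1,0],[0,1,0,1,0,1,0,1,1,0,1,0,1,1,0,1,0,1,1,0,1,1],[0,1,0,1,0,1,0,1,1,0,1,0,1,1,0,1,1,0,1,0,1,0],[0,1,0,1,0,1,0,1,1,0,1,0,1,1,0,1,1,0,1,0,1,1],[0,1,0,1,1,0,1,1,0,1,0,1,1,0,1,0,1,1,0,1,0,1],[0,1,0,1,1,0,1,1,0,1,0,1,1,0,1,0,1,1,0,1,1,0],[0,1,1,0,1,0,1,0,1,1,0,1,0,1,0,1,1,0,1,0,1,0],[0,1,1,0,1,0,1,0,1,1,0,1,0,1,0,1,1,0,1,0,1,1],[0,1,1,0,1,0,1,0,1,1,0,1,1,0,1,0,1,0,1,1,0,1],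[0,1,1,0,1,0,1,1,0,1,0,1,1,0,1,0,1,0,1,1,0,1],[1,0,1,0,1,0,1,1,0,1,0,1,0,1,1,0,1,0,1,1,0,1],[1,0,1,0,1,0,1,1,0,1,0,1,1,0,1,1,0,1,0,1,1,0],[1,0,1,0,1,0,1,1,0,1,1,0,1,0,1,0,1,1,0,1,0,1],[1,0,1,0,1,0,1,1,0,1,1,0,1,0,1,0,1,1,0,1,1,0],[1,0,1,0,1,0,1,1,0,1,1,0,1,0,1,1,0,1,0,1,0,1],[1,0,1,0,1,0,1,1,0,1,1,0,1,0,1,1,0,1,0,1,1,0],[1,0,1,0,1,1,0,1,0,1,0,1,1,0,1,0,1,0,1,1,0,1],[1,0,1,0,1,1,0,1,0,1,0,1,1,0,1,0,1,1,0,1,0,1],[1,0,1,0,1,1,0,1,0,1,1,0,1,0,1,1,0,1,1,0,1,0],[1,0,1,1,0,1,1,0,1,0,1,1,0,1,0,1,0,1,1,0,1,0],[1,0,1,1,0,1,1,0,1,0,1,1,0,1,0,1,0,1,1,0,1,1],[1,0,1,1,0,1,1,0,1,0,1,1,0,1,0,1,1,0,1,0,1,0],[1,0,1,1,0,1,1,0,1,0,1,1,0,1,0,1,1,0,1,0,1,1],[1,0,1,1,0,1,1,0,1,0,1,1,0,1,0,1,1,0,1,1,0,1],[1,1,0,1,0,1,0,1,1,0,1,0,1,1,0,1,1,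0,1,0,1,0],[1,1,0,1,0,1,0,1,1,0,1,0,1,1,0,1,1,0,1,0,1,1],[1,1,0,1,0,1,1,0,1,0,1,0,1,1,0,1,1,0,1,0,1,0],[1,1,0,1,0,1,1,0,1,0,1,0,1,1,0,1,1,0,1,0,1,1],[1,1,0,1,0,1,1,0,1,0,1,1,0,1,0,1,0,1,1,0,1,0],[1,1,0,1,0,1,1,0,1,1,0,1,0,1,1,0,1,0,1,0,1,0],[1,1,0,1,1,0,1,0,1,0,1,1,0,1,0,1,1,0,1,0,1,1],[0,1,0,1,0,1,0,1,1,0,1,0,1,1,0,1,0,1,1,0,1,0,1],[0,1,0,1,0,1,0,1,1,0,1,0,1,1,0,1,1,0,1,0,1,1,0],[0,1,0,1,1,0,1,1,0,1,0,1,1,0,1,0,1,1,0,1,0,1,0],[0,1,0,1,1,0,1,1,0,1,0,1,1,0,1,0,1,1,0,1,0,1,1],[0,1,1,0,1,0,1,0,1,1,0,1,1,0,1,0,1,0,1,1,0,1,0],[0,1,1,0,1,0,1,0,1,1,0,1,1,0,1,0,1,0,1,1,0,1,1],[0,1,1,0,1,0,1,1,0,1,0,1,1,0,1,0,1,0,1,1,0,1,0],[1,0,1,0,1,0,1,1,0,1,0,1,1,0,1,1,0,1,0,1,1,0,1],[1,0,1,0,1,0,1,1,0,1,1,0,1,0,1,0,1,1,0,1,0,1,0],[1,0,1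,0,1,0,1,1,0,1,1,0,1,0,1,0,1,1,0,1,1,0,1],[1,0,1,0,1,0,1,1,0,1,1,0,1,0,1,1,0,1,0,1,0,1,0],[1,0,1,0,1,1,0,1,0,1,0,1,1,0,1,0,1,0,1,1,0,1,0],[1,0,1,0,1,1,0,1,0,1,0,1,1,0,1,0,1,0,1,1,0,1,1],[1,0,1,0,1,1,0,1,0,1,0,1,1,0,1,0,1,1,0,1,0,1,0],[1,0,1,0,1,1,0,1,0,1,0,1,1,0,1,0,1,1,0,1,0,1,1],[1,0,1,1,0,1,1,0,1,0,1,1,0,1,0,1,1,0,1,1,0,1,0],[1,1,0,1,0,1,0,1,1,0,1,0,1,1,0,1,1,0,1,0,1,1,0],[1,1,0,1,0,1,1,0,1,0,1,0,1,1,0,1,1,0,1,0,1,0,1],[1,1,0,1,1,0,1,0,1,0,1,1,0,1,0,1,1,0,1,0,1,1,0],[0,1,0,1,0,1,0,1,1,0,1,0,1,1,0,1,1,0,1,0,1,1,0,1],[0,1,0,1,1,0,1,1,0,1,0,1,1,0,1,0,1,1,0,1,0,1,1,0],[0,1,1,0,1,0,1,0,1,1,0,1,1,0,1,0,1,0,1,1,0,1,0,1],[0,1,1,0,1,0,1,1,0,1,0,1,1,0,1,0,1,0,1,1,0,1,0,1],[1,0,1,0,1,0,1,1,0,1,0,1,1,0,1,1,0,1,0,1,1,0,1,1],[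1,0,1,0,1,0,1,1,0,1,1,0,1,0,1,0,1,1,0,1,0,1,0,1],[1,0,1,0,1,1,0,1,0,1,0,1,1,0,1,0,1,0,1,1,0,1,0,1],[1,0,1,0,1,1,0,1,0,1,0,1,1,0,1,0,1,0,1,1,0,1,1,0],[1,0,1,0,1,1,0,1,0,1,0,1,1,0,1,0,1,1,0,1,0,1,0,1],[1,0,1,0,1,1,0,1,0,1,0,1,1,0,1,0,1,1,0,1,0,1,1,0],[0,1,0,1,0,1,0,1,1,0,1,0,1,1,0,1,1,0,1,0,1,1,0,1,0],[0,1,0,1,1,0,1,1,0,1,0,1,1,0,1,0,1,1,0,1,0,1,1,0,1],[0,1,1,0,1,0,1,0,1,1,0,1,1,0,1,0,1,0,1,1,0,1,0,1,0],[0,1,1,0,1,0,1,1,0,1,0,1,1,0,1,0,1,0,1,1,0,1,0,1,0],[0,1,1,0,1,0,1,1,0,1,0,1,1,0,1,0,1,0,1,1,0,1,0,1,1],[1,0,1,0,1,1,0,1,0,1,0,1,1,0,1,0,1,0,1,1,0,1,0,1,0],[1,0,1,0,1,1,0,1,0,1,0,1,1,0,1,0,1,0,1,1,0,1,0,1,1],[1,0,1,0,1,1,0,1,0,1,0,1,1,0,1,0,1,0,1,1,0,1,1,0,1],[1,0,1,0,1,1,0,1,0,1,0,1,1,0,1,0,1,1,0,1,0,1,0,1,0],[1,0,1,0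,1,1,0,1,0,1,0,1,1,0,1,0,1,1,0,1,0,1,0,1,1],[0,1,0,1,0,1,0,1,1,0,1,0,1,1,0,1,1,0,1,0,1,1,0,1,0,1],[0,1,0,1,1,0,1,1,0,1,0,1,1,0,1,0,1,1,0,1,0,1,1,0,1,1],[0,1,1,0,1,0,1,1,0,1,0,1,1,0,1,0,1,0,1,1,0,1,0,1,1,0],[1,0,1,0,1,1,0,1,0,1,0,1,1,0,1,0,1,0,1,1,0,1,0,1,1,0],[1,0,1,0,1,1,0,1,0,1,0,1,1,0,1,0,1,1,0,1,0,1,0,1,1,0],[0,1,1,0,1,0,1,1,0,1,0,1,1,0,1,0,1,0,1,1,0,1,0,1,1,0,1],[0,1,1,0,1,0,1,1,0,1,0,1,1,0,1,0,1,0,1,1,0,1,0,1,1,0,1,0]]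

/-- The letters of the subgroup of order `10752`. -/
noncomputable def ltX : ℕ → PE := fun x =>
  List.getD [h1E, .inv h1E, h2E, .inv h2E] x .one

/-- A conjugate. -/
noncomputable def conjE (t e : PE) : PE := .mul (.mul t e) (.inv t)
/-- A commutator. -/
noncomputable def commE (x y : PE) : PE := .mul (.mul (.mul x y) (.inv x)) (.inv y)
/-- The involution. -/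
noncomputable def aE : PE := .lt 2
/-- A generator. -/
noncomputable def x3E : PE := conjE tauE x1E
/-- A generator. -/
noncomputable def x4E : PE := conjE tauE x2E
/-- The central element. -/
noncomputable def z7E : PE := commE x7E y7E

theorem c_u5 : eqOn (ev0 ONT.cfg) (u5E.pw 5) (.one) (0 :: ONC.ls.map (·.b)) = true := by decide +kernel
theorem m_u5 : PE.ev (ev0 ONT.cfg) u5E true 0 ≠ 0 := by decide +kernel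
theorem c_u11 : eqOn (ev0 ONT.cfg) (u11E.pw 11) (.one) (0 :: ONC.ls.map (·.b)) = true := by decide +kernel
theorem m_u11 : PE.ev (ev0 ONT.cfg) u11E true 0 ≠ 0 := by decide +kernel
theorem c_u19 : eqOn (ev0 ONT.cfg) (u19E.pw 19) (.one) (0 :: ONC.ls.map (·.b)) = true := by decide +kernel
theorem m_u19 : PE.ev (ev0 ONT.cfg) u19E true 1 ≠ 1 := by decide +kernel
theorem c_u31 : eqOn (ev0 ONT.cfg) (u31E.pw 31) (.one) (0 :: ONC.ls.map (·.b)) = true := by decide +kernel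
theorem m_u31 : PE.ev (ev0 ONT.cfg) u31E true 0 ≠ 0 := by decide +kernel
theorem c_x7 : eqOn (ev0 ONT.cfg) (x7E.pw 7) (.one) (0 :: ONC.ls.map (·.b)) = true := by decide +kernel
theorem c_y7 : eqOn (ev0 ONT.cfg) (y7E.pw 7) (.one) (0 :: ONC.ls.map (·.b)) = true := by decide +kernel
theorem c_z7 : eqOn (ev0 ONT.cfg) (z7E.pw 7) (.one) (0 :: ONC.ls.map (·.b)) = true := by decide +kernel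
theorem m_z7 : PE.ev (ev0 ONT.cfg) z7E true 0 ≠ 0 := by decide +kernel
theorem c_xz : eqOn (ev0 ONT.cfg) (.mul x7E z7E) (.mul z7E x7E) (0 :: ONC.ls.map (·.b)) = true := by decide +kernel
theorem c_yz : eqOn (ev0 ONT.cfg) (.mul y7E z7E) (.mul z7E y7E) (0 :: ONC.ls.map (·.b)) = true := by decide +kernel
theorem c_ax : eqOn (ev0 ONT.cfg) (.mul (.mul aE x7E) (.inv aE)) (.inv x7E) (0 :: ONC.ls.map (·.b)) = true := by decide +kernel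
theorem c_ay : eqOn (ev0 ONT.cfg) (.mul (.mul aE y7E) (.inv aE)) (.inv y7E) (0 :: ONC.ls.map (·.b)) = true := by decide +kernel
theorem c_x1 : eqOn (ev0 ONT.cfg) (x1E.pw 3) (.one) (0 :: ONC.ls.map (·.b)) = true := by decide +kernel
theorem c_x2 : eqOn (ev0 ONT.cfg) (x2E.pw 3) (.one) (0 :: ONC.ls.map (·.b)) = true := by decide +kernel
theorem c_12 : eqOn (ev0 ONT.cfg) (.mul x1E x2E) (.mul x2E x1E) (0 :: ONC.ls.map (·.b)) = true := by decide +kernel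
theorem c_13 : eqOn (ev0 ONT.cfg) (.mul x1E x3E) (.mul x3E x1E) (0 :: ONC.ls.map (·.b)) = true := by decide +kernel
theorem c_14 : eqOn (ev0 ONT.cfg) (.mul x1E x4E) (.mul x4E x1E) (0 :: ONC.ls.map (·.b)) = true := by decide +kernel
theorem c_23 : eqOn (ev0 ONT.cfg) (.mul x2E x3E) (.mul x3E x2E) (0 :: ONC.ls.map (·.b)) = true := by decide +kernel
theorem c_24 : eqOn (ev0 ONT.cfg) (.mul x2E x4E) (.mul x4E x2E) (0 :: ONC.ls.map (·.b)) = true := by decide +kernel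
theorem c_s1 : eqOn (ev0 ONT.cfg) (.mul (.mul aE x1E) (.inv aE)) (x1E) (0 :: ONC.ls.map (·.b)) = true := by decide +kernel
theorem c_s2 : eqOn (ev0 ONT.cfg) (.mul (.mul aE x2E) (.inv aE)) (x2E) (0 :: ONC.ls.map (·.b)) = true := by decide +kernel
theorem c_s3 : eqOn (ev0 ONT.cfg) (.mul (.mul aE x3E) (.inv aE)) (.inv x3E) (0 :: ONC.ls.map (·.b)) = true := by decide +kernel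
theorem c_s4 : eqOn (ev0 ONT.cfg) (.mul (.mul aE x4E) (.inv aE)) (.inv x4E) (0 :: ONC.ls.map (·.b)) = true := by decide +kernel
theorem o_7 : OrbOK [x7E, y7E] 0 W7 L7 := by decide +kernel
theorem o_3 : OrbOK [x1E, x2E, x3E, x4E] 31190 W3 L3 := by decide +kernel
theorem o_2 : OrbOK [h1E, h2E] 461 W2 L2 := by decide +kernel
theorem len_7 : L7.length = 343 := by decide +kernel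
theorem len_3 : L3.length = 81 := by decide +kernel
theorem len_2 : L2.length = 512 := by decide +kernel
theorem rels_X : ∀ w ∈ Cfsg.Agent.Lib.Compute.Mult.ONH.WW, eqOn (ev0 ONT.cfg) (wP ltX w) .one (0 :: ONC.ls.map (·.b)) = true := by decide +kernel
theorem c_U : eqOn (ev0 ONT.cfg) ((wP ltX Cfsg.Agent.Lib.Compute.Mult.ONH.uW).pw 2) (.one) (0 :: ONC.ls.map (·.b)) = true := by decide +kernel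
theorem c_V : eqOn (ev0 ONT.cfg) (wP ltX Cfsg.Agent.Lib.Compute.Mult.ONH.vW) (.mul (.mul ccE (wP ltX Cfsg.Agent.Lib.Compute.Mult.ONH.uW)) (.inv ccE)) (0 :: ONC.ls.map (·.b)) = true := by decide +kernel
theorem c_y3 : eqOn (ev0 ONT.cfg) (h2E.pw 3) (.one) (0 :: ONC.ls.map (·.b)) = true := by decide +kernel
theorem m_y3 : PE.ev (ev0 ONT.cfg) h2E true 0 ≠ 0 := by decide +kernel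
/-- An element of order seven. -/
def w7X : List ℕ := [0,2]
theorem c_s7 : eqOn (ev0 ONT.cfg) ((wP ltX w7X).pw 7) (.one) (0 :: ONC.ls.map (·.b)) = true := by decide +kernel
theorem m_s7 : PE.ev (ev0 ONT.cfg) (wP ltX w7X) true 0 ≠ 0 := by decide +kernel
theorem N_eq : ONT.cfg.N = 122760 := by decide +kernel
theorem p_u : (0 : ℕ) < ONT.cfg.N ∧ 0 < ONT.cfg.N ∧ 1 < ONT.cfg.N ∧ 0 < ONT.cfg.N := by decide +kernel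

end Cfsg.Agent.Lib.Compute.Mult.ON
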