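import Cfsg.Agent.Lib.Compute.Mult.ON.DefsL

/-!
# The check of the table on `122760` points
-/

set_option autoImplicit false
set_option maxRecDepth 100000

namespace Cfsg.Agent.Lib.Compute.Mult.ON

open Cfsg.Agent.Lib.Compute.PermCert Cfsg.Agent.Lib.Compute.PeelCert Cfsg.Agent.Lib.Compute.CoverCert
open Cfsg.Agent.Lib.Compute.SchurLin (flp expV unitV)

theorem tabR0 : allB (fun r => tabOKL (Nat.add 0 r)) 4096 = true := by decide +kernel
theorem tabR1 : allB (fun r => tabOKL (Nat.add 4096 r)) 4096 = true := by decide +kernel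
theorem tabR2 : allB (fun r => tabOKL (Nat.add 8192 r)) 4096 = true := by decide +kernel
theorem tabR3 : allB (fun r => tabOKL (Nat.add 12288 r)) 4096 = true := by decide +kernel
theorem tabR4 : allB (fun r => tabOKL (Nat.add 16384 r)) 4096 = true := by decide +kernel
theorem tabR5 : allB (fun r => tabOKL (Nat.add 20480 r)) 4096 = true := by decide +kernel
theorem tabR6 : allB (fun r => tabOKL (Nat.add 24576 r)) 4096 = true := by decide +kernel
theorem tabR7 : allB (fun r => tabOKL (Nat.add 28672 r)) 4096 = true := by decide +kernel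
theorem tabR8 : allB (fun r => tabOKL (Nat.add 32768 r)) 4096 = true := by decide +kernel
theorem tabR9 : allB (fun r => tabOKL (Nat.add 36864 r)) 4096 = true := by decide +kernel
theorem tabR10 : allB (fun r => tabOKL (Nat.add 40960 r)) 4096 = true := by decide +kernel
theorem tabR11 : allB (fun r => tabOKL (Nat.add 45056 r)) 4096 = true := by decide +kernel
theorem tabR12 : allB (fun r => tabOKL (Nat.add 49152 r)) 4096 = true := by decide +kernel
theorem tabR13 : allB (fun r => tabOKL (Nat.add 53248 r)) 4096 = true := by decide +kernel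
theorem tabR14 : allB (fun r => tabOKL (Nat.add 57344 r)) 4096 = true := by decide +kernel
theorem tabR15 : allB (fun r => tabOKL (Nat.add 61440 r)) 4096 = true := by decide +kernel
theorem tabR16 : allB (fun r => tabOKL (Nat.add 65536 r)) 4096 = true := by decide +kernel
theorem tabR17 : allB (fun r => tabOKL (Nat.add 69632 r)) 4096 = true := by decide +kernel
theorem tabR18 : allB (fun r => tabOKL (Nat.add 73728 r)) 4096 = true := by decide +kernel
theorem tabR19 : allB (fun r => tabOKL (Nat.add 77824 r)) 4096 = true := by decide +kernel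
theorem tabR20 : allB (fun r => tabOKL (Nat.add 81920 r)) 4096 = true := by decide +kernel
theorem tabR21 : allB (fun r => tabOKL (Nat.add 86016 r)) 4096 = true := by decide +kernel
theorem tabR22 : allB (fun r => tabOKL (Nat.add 90112 r)) 4096 = true := by decide +kernel
theorem tabR23 : allB (fun r => tabOKL (Nat.add 94208 r)) 4096 = true := by decide +kernel
theorem tabR24 : allB (fun r => tabOKL (Nat.add 98304 r)) 4096 = true := by decide +kernel
theorem tabR25 : allB (fun r => tabOKL (Nat.add 102400 r)) 4096 = true := by decide +kernel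
theorem tabR26 : allB (fun r => tabOKL (Nat.add 106496 r)) 4096 = true := by decide +kernel
theorem tabR27 : allB (fun r => tabOKL (Nat.add 110592 r)) 4096 = true := by decide +kernel
theorem tabR28 : allB (fun r => tabOKL (Nat.add 114688 r)) 4096 = true := by decide +kernel
theorem tabR29 : allB (fun r => tabOKL (Nat.add 118784 r)) 3976 = true := by decide +kernel

theorem tabL_all : allB tabOKL 122760 = true := by
  rw [allB_iff]
  intro u hu
  by_cases h0 : u < 4096
  · exact Cfsg.Agent.Lib.Compute.Mult.blk tabR0 (by omega) (by omega)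
  by_cases h1 : u < 8192
  · exact Cfsg.Agent.Lib.Compute.Mult.blk tabR1 (by omega) (by omega)
  by_cases h2 : u < 12288
  · exact Cfsg.Agent.Lib.Compute.Mult.blk tabR2 (by omega) (by omega)
  by_cases h3 : u < 16384
  · exact Cfsg.Agent.Lib.Compute.Mult.blk tabR3 (by omega) (by omega)
  by_cases h4 : u < 20480
  · exact Cfsg.Agent.Lib.Compute.Mult.blk tabR4 (by omega) (by omega)
  by_cases h5 : u < 24576
  · exact Cfsg.Agent.Lib.Compute.Mult.blk tabR5 (by omega) (by omega)
  by_cases h6 : u < 28672
  · exact Cfsg.Agent.Lib.Compute.Mult.blk tabR6 (by omega) (by omega)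
  by_cases h7 : u < 32768
  · exact Cfsg.Agent.Lib.Compute.Mult.blk tabR7 (by omega) (by omega)
  by_cases h8 : u < 36864
  · exact Cfsg.Agent.Lib.Compute.Mult.blk tabR8 (by omega) (by omega)
  by_cases h9 : u < 40960
  · exact Cfsg.Agent.Lib.Compute.Mult.blk tabR9 (by omega) (by omega)
  by_cases h10 : u < 45056
  · exact Cfsg.Agent.Lib.Compute.Mult.blk tabR10 (by omega) (by omega)
  by_cases h11 : u < 49152
  · exact Cfsg.Agent.Lib.Compute.Mult.blk tabR11 (by omega) (by omega)
  by_cases h12 : u < 53248
  · exact Cfsg.Agent.Lib.Compute.Mult.blk tabR12 (by omega) (by omega)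
  by_cases h13 : u < 57344
  · exact Cfsg.Agent.Lib.Compute.Mult.blk tabR13 (by omega) (by omega)
  by_cases h14 : u < 61440
  · exact Cfsg.Agent.Lib.Compute.Mult.blk tabR14 (by omega) (by omega)
  by_cases h15 : u < 65536
  · exact Cfsg.Agent.Lib.Compute.Mult.blk tabR15 (by omega) (by omega)
  by_cases h16 : u < 69632
  · exact Cfsg.Agent.Lib.Compute.Mult.blk tabR16 (by omega) (by omega)
  by_cases h17 : u < 73728
  · exact Cfsg.Agent.Lib.Compute.Mult.blk tabR17 (by omega) (by omega)
  by_cases h18 : u < 77824
  · exact Cfsg.Agent.Lib.Compute.Mult.blk tabR18 (by omega) (by omega)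
  by_cases h19 : u < 81920
  · exact Cfsg.Agent.Lib.Compute.Mult.blk tabR19 (by omega) (by omega)
  by_cases h20 : u < 86016
  · exact Cfsg.Agent.Lib.Compute.Mult.blk tabR20 (by omega) (by omega)
  by_cases h21 : u < 90112
  · exact Cfsg.Agent.Lib.Compute.Mult.blk tabR21 (by omega) (by omega)
  by_cases h22 : u < 94208
  · exact Cfsg.Agent.Lib.Compute.Mult.blk tabR22 (by omega) (by omega)
  by_cases h23 : u < 98304
  · exact Cfsg.Agent.Lib.Compute.Mult.blk tabR23 (by omega) (by omega)
  by_cases h24 : u < 102400
  · exact Cfsg.Agent.Lib.Compute.Mult.blk tabR24 (by omega) (by omega)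
  by_cases h25 : u < 106496
  · exact Cfsg.Agent.Lib.Compute.Mult.blk tabR25 (by omega) (by omega)
  by_cases h26 : u < 110592
  · exact Cfsg.Agent.Lib.Compute.Mult.blk tabR26 (by omega) (by omega)
  by_cases h27 : u < 114688
  · exact Cfsg.Agent.Lib.Compute.Mult.blk tabR27 (by omega) (by omega)
  by_cases h28 : u < 118784
  · exact Cfsg.Agent.Lib.Compute.Mult.blk tabR28 (by omega) (by omega)
  exact Cfsg.Agent.Lib.Compute.Mult.blk tabR29 (by omega) (by omega)

end Cfsg.Agent.Lib.Compute.Mult.ON
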